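import Groth.Agent.TotAc16.Effaceable
import Groth.Agent.SiteTen.Tensor
import Mathlib.LinearAlgebra.TensorProduct.Tower
import Mathlib.Algebra.Category.ModuleCat.Presheaf.EpiMono
import Mathlib.RingTheory.Flat.Basic

/-!
The abelian sheaf underlying `Hom_O(F, G)`, `G` injective, extends maps from kernels of maps of
sectionwise torsion-free presheaves.
-/

set_option autoImplicit false
set_option backward.isDefEq.respectTransparency false
universe u

open CategoryTheory CategoryTheory.Limits Opposite MonoidalCategory TensorProduct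

namespace Groth.Agent.TotAc16

variable {C : Type u} [SmallCategory C] {J : GrothendieckTopology C} (O : Sheaf J CommRingCat.{u})

/-- `O ⊗ P`. -/
noncomputable def scal (P : Cᵒᵖ ⥤ AddCommGrpCat.{u}) : ModSite.preMod O where
  obj U := ModuleCat.of (O.obj.obj U) (TensorProduct ℤ (O.obj.obj U) (P.obj U))
  map {U V} f := ModuleCat.ofHom (R := O.obj.obj U) (X := TensorProduct ℤ (O.obj.obj U) (P.obj U))
    (Y := (ModuleCat.restrictScalars (O.obj.map f).hom).obj
      (ModuleCat.of (O.obj.obj V) (TensorProduct ℤ (O.obj.obj V) (P.obj V))))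
    { toFun := fun t => TensorProduct.map (O.obj.map f).hom.toAddMonoidHom.toIntLinearMap
        (P.map f).hom.toIntLinearMap t
      map_add' := fun a b => map_add (TensorProduct.map (O.obj.map f).hom.toAddMonoidHom.toIntLinearMap
        (P.map f).hom.toIntLinearMap) a b
      map_smul' := fun r m => by
        induction m using TensorProduct.induction_on with
        | zero => simp only [smul_zero, map_zero]
        | add a b ha hb =>
          simp only [smul_add, map_add] at ha hb ⊢
          rw [ha, hb]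
        | tmul s p =>
          change (O.obj.map f).hom (r * s) ⊗ₜ[ℤ] P.map f p = ((O.obj.map f).hom r * (O.obj.map f).hom s) ⊗ₜ[ℤ] P.map f p
          rw [map_mul] }
  map_id U := by
    refine ModuleCat.hom_ext (LinearMap.ext fun (t : TensorProduct ℤ (O.obj.obj U) (P.obj U)) => ?_)
    change TensorProduct.map (O.obj.map (𝟙 U)).hom.toAddMonoidHom.toIntLinearMap
      (P.map (𝟙 U)).hom.toIntLinearMap t = t
    induction t using TensorProduct.induction_on with
    | zero => simp
    | add a b ha hb => simp only [map_add, ha, hb]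
    | tmul r p =>
      change (O.obj.map (𝟙 U)) r ⊗ₜ[ℤ] (P.map (𝟙 U)) p = r ⊗ₜ[ℤ] p
      rw [O.obj.map_id, P.map_id]
      rfl
  map_comp {U V W} f g := by
    refine ModuleCat.hom_ext (LinearMap.ext fun (t : TensorProduct ℤ (O.obj.obj U) (P.obj U)) => ?_)
    change TensorProduct.map (O.obj.map (f ≫ g)).hom.toAddMonoidHom.toIntLinearMap
      (P.map (f ≫ g)).hom.toIntLinearMap t = TensorProduct.map (O.obj.map g).hom.toAddMonoidHom.toIntLinearMap
      (P.map g).hom.toIntLinearMap (TensorProduct.map (O.obj.map f).hom.toAddMonoidHom.toIntLinearMap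
        (P.map f).hom.toIntLinearMap t)
    induction t using TensorProduct.induction_on with
    | zero => simp
    | add a b ha hb => simp only [map_add, ha, hb]
    | tmul r p =>
      change (O.obj.map (f ≫ g)) r ⊗ₜ[ℤ] (P.map (f ≫ g)) p =
        (O.obj.map g) (O.obj.map f r) ⊗ₜ[ℤ] (P.map g) (P.map f p)
      rw [O.obj.map_comp, P.map_comp]
      rfl

variable {O}

/-- An element of `O ⊗ P`. -/
noncomputable def el {P : Cᵒᵖ ⥤ AddCommGrpCat.{u}} (U : Cᵒᵖ) (r : O.obj.obj U) (p : P.obj U) : (scal O P).obj U :=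
  (r ⊗ₜ[ℤ] p : TensorProduct ℤ (O.obj.obj U) (P.obj U))

/-- Functoriality of `O ⊗ P`. -/
noncomputable def scalMap {P Q : Cᵒᵖ ⥤ AddCommGrpCat.{u}} (φ : P ⟶ Q) : scal O P ⟶ scal O Q :=
  PresheafOfModules.homMk
    { app := fun U => AddCommGrpCat.ofHom ((φ.app U).hom.toIntLinearMap.lTensor (O.obj.obj U)).toAddMonoidHom
      naturality := fun U V f => by
        refine AddCommGrpCat.hom_ext (AddMonoidHom.ext fun (t : TensorProduct ℤ (O.obj.obj U) (P.obj U)) => ?_)
        induction t using TensorProduct.induction_on with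
        | zero => simp only [map_zero]
        | add a b ha hb => simp only [map_add, ha, hb]
        | tmul r p =>
          change (O.obj.map f r) ⊗ₜ[ℤ] φ.app V (P.map f p) = (O.obj.map f r) ⊗ₜ[ℤ] Q.map f (φ.app U p)
          rw [NatTrans.naturality_apply] }
    fun U (r : O.obj.obj U) (m : TensorProduct ℤ (O.obj.obj U) (P.obj U)) => by
      change (φ.app U).hom.toIntLinearMap.lTensor (O.obj.obj U) (r • m) =
        r • (φ.app U).hom.toIntLinearMap.lTensor (O.obj.obj U) m
      induction m using TensorProduct.induction_on with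
      | zero => simp only [smul_zero, map_zero]
      | add a b ha hb => simp only [smul_add, map_add, ha, hb]
      | tmul s p => rfl

/-- The value of a map into the abelian presheaf underlying `M`, as an element of the module. -/
noncomputable def ap {P : Cᵒᵖ ⥤ AddCommGrpCat.{u}} {M : ModSite.preMod O} (φ : P ⟶ M.presheaf) (U : Cᵒᵖ)
    (p : P.obj U) : M.obj U := φ.app U p

lemma ap_add {P : Cᵒᵖ ⥤ AddCommGrpCat.{u}} {M : ModSite.preMod O} (φ : P ⟶ M.presheaf) (U : Cᵒᵖ)
    (p q : P.obj U) : ap φ U (p + q) = ap φ U p + ap φ U q := map_add (φ.app U).hom p q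

lemma ap_zsmul {P : Cᵒᵖ ⥤ AddCommGrpCat.{u}} {M : ModSite.preMod O} (φ : P ⟶ M.presheaf) (U : Cᵒᵖ)
    (c : ℤ) (p : P.obj U) : ap φ U (c • p) = c • ap φ U p := map_zsmul (φ.app U).hom c p

lemma ap_map {P : Cᵒᵖ ⥤ AddCommGrpCat.{u}} {M : ModSite.preMod O} (φ : P ⟶ M.presheaf) {U V : Cᵒᵖ}
    (f : U ⟶ V) (p : P.obj U) : ap φ V (P.map f p) = M.map f (ap φ U p) := NatTrans.naturality_apply φ f p

/-- The bilinear pairing behind a map out of `O ⊗ P`. -/
noncomputable def liftLin {P : Cᵒᵖ ⥤ AddCommGrpCat.{u}} {M : ModSite.preMod O} (φ : P ⟶ M.presheaf) (U : Cᵒᵖ) :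
    TensorProduct ℤ (O.obj.obj U) (P.obj U) →ₗ[ℤ] M.obj U :=
  TensorProduct.lift (LinearMap.mk₂ ℤ (fun (r : O.obj.obj U) (p : P.obj U) => r • ap φ U p)
    (fun _ _ _ => add_smul _ _ _) (fun c r p => smul_assoc c r _)
    (fun r p q => by rw [ap_add]; exact smul_add _ _ _)
    (fun c r p => by rw [ap_zsmul]; exact smul_comm _ _ _))

lemma liftLin_smul {P : Cᵒᵖ ⥤ AddCommGrpCat.{u}} {M : ModSite.preMod O} (φ : P ⟶ M.presheaf) (U : Cᵒᵖ)
    (r : O.obj.obj U) (m : TensorProduct ℤ (O.obj.obj U) (P.obj U)) :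
    liftLin φ U (r • m) = r • liftLin φ U m := by
  induction m using TensorProduct.induction_on with
  | zero => rw [smul_zero, map_zero]; exact (smul_zero r).symm
  | add a b ha hb => rw [smul_add, map_add, map_add, ha, hb]; exact (smul_add r _ _).symm
  | tmul s p =>
    change (r * s) • ap φ U p = r • s • ap φ U p
    exact mul_smul _ _ _

/-- A map out of `O ⊗ P`. -/
noncomputable def scalLift {P : Cᵒᵖ ⥤ AddCommGrpCat.{u}} {M : ModSite.preMod O} (φ : P ⟶ M.presheaf) :
    scal O P ⟶ M :=
  PresheafOfModules.homMk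
    { app := fun U => AddCommGrpCat.ofHom (liftLin φ U).toAddMonoidHom
      naturality := fun U V f => by
        refine AddCommGrpCat.hom_ext (AddMonoidHom.ext fun (t : TensorProduct ℤ (O.obj.obj U) (P.obj U)) => ?_)
        induction t using TensorProduct.induction_on with
        | zero => simp only [map_zero]
        | add a b ha hb => simp only [map_add, ha, hb]
        | tmul r p =>
          change liftLin φ V ((O.obj.map f).hom r ⊗ₜ[ℤ] P.map f p) = M.map f (r • ap φ U p)
          rw [M.map_smul, ← ap_map]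
          rfl }
    fun U r m => liftLin_smul φ U r m

/-- Restriction to `P`. -/
noncomputable def scalRes {P : Cᵒᵖ ⥤ AddCommGrpCat.{u}} {M : ModSite.preMod O} (ψ : scal O P ⟶ M) :
    P ⟶ M.presheaf where
  app U := AddCommGrpCat.ofHom (AddMonoidHom.mk' (fun p => (ψ.app U (el U 1 p) : M.obj U)) fun p q => by
    change ψ.app U (el U 1 (p + q)) = ψ.app U (el U 1 p) + ψ.app U (el U 1 q)
    rw [← map_add]
    exact congrArg _ (TensorProduct.tmul_add (R := ℤ) (1 : O.obj.obj U) p q))
  naturality U V f := by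
    refine AddCommGrpCat.hom_ext (AddMonoidHom.ext fun p => ?_)
    change ψ.app V (el V 1 (P.map f p)) = M.map f (ψ.app U (el U 1 p))
    rw [← PresheafOfModules.naturality_apply]
    refine congrArg _ ?_
    change (1 : O.obj.obj V) ⊗ₜ[ℤ] P.map f p = O.obj.map f 1 ⊗ₜ[ℤ] P.map f p
    rw [map_one]

lemma scalRes_lift {P : Cᵒᵖ ⥤ AddCommGrpCat.{u}} {M : ModSite.preMod O} (φ : P ⟶ M.presheaf) :
    scalRes (scalLift φ) = φ := by
  refine NatTrans.ext (funext fun U => AddCommGrpCat.hom_ext (AddMonoidHom.ext fun p => ?_))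
  exact one_smul (O.obj.obj U) (ap φ U p)

lemma scalRes_comp {P Q : Cᵒᵖ ⥤ AddCommGrpCat.{u}} {M : ModSite.preMod O} (f : P ⟶ Q) (ψ : scal O Q ⟶ M) :
    scalRes (scalMap f ≫ ψ) = f ≫ scalRes ψ := rfl

lemma mono_whisker (F : ModSite.preMod O) {P Q : Cᵒᵖ ⥤ AddCommGrpCat.{u}} (q : Q ⟶ P) (hP : IsTF P) :
    Mono (scalMap (O := O) (kernel.ι q) ▷ F) := by
  refine PresheafOfModules.mono_of_injective fun U => ?_
  let R := O.obj.obj U
  let i := ((kernel.ι q).app U).hom.toIntLinearMap
  let g := (q.app U).hom.toIntLinearMap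
  haveI := hP U
  haveI : Module.Flat ℤ (LinearMap.range g) :=
    flat_of_injective (LinearMap.range g).subtype.toAddMonoidHom (LinearMap.range g).injective_subtype
  have hi : Function.Injective i := (AddCommGrpCat.mono_iff_injective ((kernel.ι q).app U)).1 inferInstance
  have hex : Function.Exact i g.rangeRestrict := by
    have h := ((ShortComplex.exact_of_f_is_kernel (ShortComplex.mk (kernel.ι q) q (kernel.condition q))
      (kernelIsKernel q)).map ((evaluation Cᵒᵖ AddCommGrpCat.{u}).obj U))
    rw [ShortComplex.ab_exact_iff] at h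
    intro y
    constructor
    · intro hy
      exact h y (congrArg Subtype.val hy)
    · rintro ⟨x, rfl⟩
      exact Subtype.ext (ConcreteCategory.congr_hom (congrArg (fun φ => φ.app U) (kernel.condition q)) x)
  have hinj : Function.Injective (i.lTensor (F.obj U)) :=
    LinearMap.lTensor_injective_of_exact_of_flat g.rangeRestrict g.surjective_rangeRestrict i hi hex (F.obj U)
  let e : ∀ X : Cᵒᵖ ⥤ AddCommGrpCat.{u}, TensorProduct R (TensorProduct ℤ R (X.obj U)) (F.obj U) →
      TensorProduct ℤ (F.obj U) (X.obj U) := fun X t =>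
    AlgebraTensorModule.cancelBaseChange ℤ R R (F.obj U) (X.obj U) (TensorProduct.comm R _ _ t)
  have he : ∀ X, Function.Bijective (e X) := fun X =>
    (AlgebraTensorModule.cancelBaseChange ℤ R R (F.obj U) (X.obj U)).bijective.comp
      (TensorProduct.comm R _ _).bijective
  have hc : ∀ t, e Q ((scalMap (O := O) (kernel.ι q) ▷ F).app U t) = i.lTensor (F.obj U) (e (kernel q) t) := by
    intro (t : TensorProduct R (TensorProduct ℤ R ((kernel q).obj U)) (F.obj U))
    induction t using TensorProduct.induction_on with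
    | zero => simp [e]
    | add a b ha hb => simp only [e, map_add] at ha hb ⊢; rw [ha, hb]
    | tmul s f =>
      induction s using TensorProduct.induction_on with
      | zero => simp only [TensorProduct.zero_tmul, map_zero, e]
      | add a b ha hb => simp only [TensorProduct.add_tmul, map_add, e] at ha hb ⊢; rw [ha, hb]
      | tmul r k => rfl
  intro t t' h
  exact (he _).1 (hinj ((hc t).symm.trans ((congrArg (e Q) h).trans (hc t'))))

lemma extends_sheafHom (F G : ModSite.Mod O) [ModSite.HasSheafHom F] [Injective G] :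
    Extends J (ModSite.toAb ((ModSite.sheafHom F).obj G)) := by
  intro P Q q hP _ g
  let H := (ModSite.sheafHom F).obj G
  let Fv := (ModSite.toPre O).obj F
  let A := ModSite.sheafHomAdj F
  let S := SiteTen.shAdj O
  let i := scalMap (O := O) (kernel.ι q)
  let φ : scal O (kernel q) ⟶ (ModSite.toPre O).obj H := scalLift g
  let ψ : ((ModSite.tensorBi O).flip.obj F).obj ((ModSite.shPre O).obj (scal O (kernel q))) ⟶ G :=
    (A.homEquiv _ _).symm ((S.homEquiv _ _).symm φ)
  haveI : ∀ X : ModSite.preMod O, IsIso ((ModSite.shPre O).map (SiteTen.η O X ▷ Fv)) := fun X =>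
    SiteTen.isIso_shPre_whiskerRight Fv _ (SiteTen.isW_unit X)
  haveI := mono_whisker Fv q hP
  haveI : PreservesFiniteLimits (ModSite.shPre O) :=
    inferInstanceAs (PreservesFiniteLimits (PresheafOfModules.sheafification.{u} (𝟙 (ModSite.ringSh O).obj)))
  haveI : Mono ((ModSite.shPre O).map (i ▷ Fv)) := inferInstance
  let ψ₀ : (ModSite.shPre O).obj (scal O (kernel q) ⊗ Fv) ⟶ G :=
    (ModSite.shPre O).map (SiteTen.η O _ ▷ Fv) ≫ ψ
  let θ := Injective.factorThru ψ₀ ((ModSite.shPre O).map (i ▷ Fv))
  let θ' : ((ModSite.tensorBi O).flip.obj F).obj ((ModSite.shPre O).obj (scal O Q)) ⟶ G :=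
    inv ((ModSite.shPre O).map (SiteTen.η O (scal O Q) ▷ Fv)) ≫ θ
  have hθ : ((ModSite.tensorBi O).flip.obj F).map ((ModSite.shPre O).map i) ≫ θ' = ψ := by
    rw [← cancel_epi ((ModSite.shPre O).map (SiteTen.η O (scal O (kernel q)) ▷ Fv))]
    have : (ModSite.shPre O).map (SiteTen.η O (scal O (kernel q)) ▷ Fv) ≫
        ((ModSite.tensorBi O).flip.obj F).map ((ModSite.shPre O).map i) =
        (ModSite.shPre O).map (i ▷ Fv) ≫ (ModSite.shPre O).map (SiteTen.η O (scal O Q) ▷ Fv) := by
      change _ ≫ (ModSite.shPre O).map ((ModSite.toPre O).map ((ModSite.shPre O).map i) ▷ Fv) = _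
      rw [← Functor.map_comp, ← Functor.map_comp, ← comp_whiskerRight, ← comp_whiskerRight]
      exact congrArg (fun t => (ModSite.shPre O).map (t ▷ Fv)) (S.unit.naturality i).symm
    refine ((Category.assoc _ _ _).symm.trans (congrArg (· ≫ θ') this)).trans ?_
    simp only [θ', Category.assoc]
    erw [IsIso.hom_inv_id_assoc]
    exact Injective.comp_factorThru _ _
  refine ⟨scalRes (S.homEquiv _ _ (A.homEquiv _ _ θ')), ?_⟩
  refine (scalRes_comp _ _).symm.trans ?_
  rw [← Adjunction.homEquiv_naturality_left, ← Adjunction.homEquiv_naturality_left, hθ]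
  simp only [ψ, Equiv.apply_symm_apply]
  exact scalRes_lift g

end Groth.Agent.TotAc16
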