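import Groth.Prelude.Def_CohCx
import Mathlib.CategoryTheory.Sites.EpiMono
import Mathlib.CategoryTheory.Sites.Abelian
import Mathlib.Algebra.Homology.DerivedCategory.Ext.ExactSequences
import Mathlib.Algebra.Homology.DerivedCategory.Ext.EnoughInjectives
import Mathlib.Algebra.FreeAbelianGroup.Finsupp
import Mathlib.RingTheory.Flat.TorsionFree
import Mathlib.Algebra.Category.Grp.Adjunctions

/-!
A criterion for the vanishing of `Ext^{≥ 1}(aP, H)` for presheaves `P` with torsion-free sections: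
it is enough to extend maps from kernels.
-/

set_option autoImplicit false
set_option backward.isDefEq.respectTransparency false
universe u v

open CategoryTheory CategoryTheory.Limits Opposite

namespace Groth.Agent.TotAc16

section Abelian

variable {A : Type (u + 1)} [Category.{u} A] [Abelian A] [HasExt.{u} A] [EnoughInjectives A]

/-- A positive degree class is killed by an epimorphism onto its source. -/
lemma exists_epi_kills : ∀ (p : ℕ) {X H : A} (x : Abelian.Ext X H (p + 1)),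
    ∃ (E : A) (e : E ⟶ X), Epi e ∧ (Abelian.Ext.mk₀ e).comp x (zero_add _) = 0
  | p, X, H, x => by
    let S := ShortComplex.mk (Injective.ι H) (cokernel.π (Injective.ι H)) (cokernel.condition _)
    have hS : S.ShortExact :=
      { exact := ShortComplex.exact_of_g_is_cokernel _ (cokernelIsCokernel _)
        mono_f := inferInstanceAs (Mono (Injective.ι H))
        epi_g := inferInstanceAs (Epi (cokernel.π _)) }
    obtain ⟨y, rfl⟩ := Abelian.Ext.covariant_sequence_exact₁ X hS x (Abelian.Ext.eq_zero_of_injective _) rfl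
    cases p with
    | zero =>
      obtain ⟨f, rfl⟩ := (Abelian.Ext.mk₀_bijective X S.X₃).2 y
      haveI := hS.epi_g
      refine ⟨pullback f S.g, pullback.fst f S.g, inferInstance, ?_⟩
      rw [Abelian.Ext.mk₀_comp_mk₀_assoc, pullback.condition, ← Abelian.Ext.mk₀_comp_mk₀_assoc, hS.comp_extClass,
        Abelian.Ext.comp_zero]
    | succ q =>
      obtain ⟨E, e, he, h⟩ := exists_epi_kills q y
      refine ⟨E, e, he, ?_⟩
      rw [← Abelian.Ext.comp_assoc (a₁₂ := q + 1) (Abelian.Ext.mk₀ e) y hS.extClass (zero_add _) rfl (by omega), h,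
        Abelian.Ext.zero_comp]

end Abelian

lemma flat_of_injective {X Y : Type u} [AddCommGroup X] [AddCommGroup Y] (f : X →+ Y)
    (hf : Function.Injective f) [Module.Flat ℤ Y] : Module.Flat ℤ X := by
  haveI : Module.IsTorsionFree ℤ X := hf.moduleIsTorsionFree f.toIntLinearMap (fun r x => map_zsmul f r x)
  infer_instance

lemma flat_free (T : Type u) : Module.Flat ℤ (FreeAbelianGroup T) :=
  Module.Flat.of_linearEquiv (FreeAbelianGroup.equivFinsupp T).toIntLinearEquiv

variable {C : Type u} [SmallCategory C] (J : GrothendieckTopology C)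

/-- Sectionwise torsion-free. -/
def IsTF (P : Cᵒᵖ ⥤ AddCommGrpCat.{u}) : Prop := ∀ U, Module.Flat ℤ (P.obj U)

/-- Sheafification. -/
noncomputable abbrev aJ : (Cᵒᵖ ⥤ AddCommGrpCat.{u}) ⥤ Sheaf J AddCommGrpCat.{u} :=
  presheafToSheaf J AddCommGrpCat.{u}

/-- `H` extends maps from kernels of maps between sectionwise torsion-free presheaves. -/
def Extends (H : Sheaf J AddCommGrpCat.{u}) : Prop :=
  ∀ ⦃P Q : Cᵒᵖ ⥤ AddCommGrpCat.{u}⦄ (q : Q ⟶ P), IsTF P → IsTF Q →
    ∀ g : kernel q ⟶ H.obj, ∃ g' : Q ⟶ H.obj, kernel.ι q ≫ g' = g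

lemma isTF_kernel {P Q : Cᵒᵖ ⥤ AddCommGrpCat.{u}} (q : Q ⟶ P) (hQ : IsTF Q) : IsTF (kernel q) := fun U => by
  haveI := hQ U
  exact flat_of_injective ((kernel.ι q).app U).hom ((AddCommGrpCat.mono_iff_injective _).1 inferInstance)

/-- The underlying presheaf of sets. -/
noncomputable abbrev und : (Cᵒᵖ ⥤ AddCommGrpCat.{u}) ⥤ (Cᵒᵖ ⥤ Type u) :=
  (Functor.whiskeringRight Cᵒᵖ AddCommGrpCat.{u} (Type u)).obj (CategoryTheory.forget AddCommGrpCat.{u})

/-- The map out of the free presheaf. -/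
noncomputable def freeLift {T : Cᵒᵖ ⥤ Type u} {P : Cᵒᵖ ⥤ AddCommGrpCat.{u}} (b : T ⟶ und.obj P) :
    T ⋙ AddCommGrpCat.free.{u} ⟶ P where
  app U := AddCommGrpCat.ofHom (X := FreeAbelianGroup (T.obj U))
    (FreeAbelianGroup.lift fun z : T.obj U => (b.app U z : P.obj U))
  naturality U V f := by
    refine AddCommGrpCat.hom_ext (FreeAbelianGroup.lift_ext _ _ fun z => ?_)
    change FreeAbelianGroup.lift _ (FreeAbelianGroup.map (T.map f) (FreeAbelianGroup.of z)) =
      P.map f (FreeAbelianGroup.lift _ (FreeAbelianGroup.of z))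
    rw [FreeAbelianGroup.map_of_apply, FreeAbelianGroup.lift_apply_of, FreeAbelianGroup.lift_apply_of]
    exact NatTrans.naturality_apply b f z

lemma freeLift_of {T : Cᵒᵖ ⥤ Type u} {P : Cᵒᵖ ⥤ AddCommGrpCat.{u}} (b : T ⟶ und.obj P) (U : Cᵒᵖ)
    (z : T.obj U) : (freeLift b).app U (FreeAbelianGroup.of z) = b.app U z :=
  FreeAbelianGroup.lift_apply_of _ z

lemma freeLift_comp {T : Cᵒᵖ ⥤ Type u} {P P' : Cᵒᵖ ⥤ AddCommGrpCat.{u}} (b : T ⟶ und.obj P) (f : P ⟶ P') :
    freeLift b ≫ f = freeLift (b ≫ und.map f) := by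
  refine NatTrans.ext (funext fun U => AddCommGrpCat.hom_ext (FreeAbelianGroup.lift_ext _ _ fun z => ?_))
  exact (congrArg (f.app U) (freeLift_of b U z)).trans (freeLift_of (b ≫ und.map f) U z).symm

lemma epi_map_freeLift {T : Cᵒᵖ ⥤ Type u} {P : Cᵒᵖ ⥤ AddCommGrpCat.{u}} (b : T ⟶ und.obj P)
    (h : ∀ (U : C) (s : P.obj (op U)), ∃ S ∈ J U, ∀ ⦃V : C⦄ (g : V ⟶ U), S g →
      ∃ z : T.obj (op V), b.app (op V) z = P.map g.op s) : Epi ((aJ J).map (freeLift b)) := by
  haveI : Presheaf.IsLocallySurjective J (freeLift b) := by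
    refine ⟨fun {U} s => ?_⟩
    obtain ⟨S, hS, hz⟩ := h U s
    refine J.superset_covering ?_ hS
    intro V g hg
    obtain ⟨z, hz⟩ := hz g hg
    exact ⟨FreeAbelianGroup.of z, (freeLift_of b (op V) z).trans hz⟩
  haveI : Sheaf.IsLocallySurjective ((aJ J).map (freeLift b)) :=
    (Presheaf.isLocallySurjective_presheafToSheaf_map_iff J (freeLift b)).2 inferInstance
  infer_instance

/-- An epimorphism onto an associated sheaf is refined by the sheafification of a map from a free presheaf. -/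
lemma exists_refine {P : Cᵒᵖ ⥤ AddCommGrpCat.{u}} {E : Sheaf J AddCommGrpCat.{u}} (e : E ⟶ (aJ J).obj P)
    [Epi e] : ∃ (Q : Cᵒᵖ ⥤ AddCommGrpCat.{u}) (q : Q ⟶ P) (k : (aJ J).obj Q ⟶ E),
      IsTF Q ∧ Epi ((aJ J).map q) ∧ k ≫ e = (aJ J).map q := by
  obtain ⟨T, a, b, hc⟩ : ∃ (T : Cᵒᵖ ⥤ Type u) (a : T ⟶ und.obj E.obj) (b : T ⟶ und.obj P),
      IsPullback a b (und.map e.hom) (und.map (toSheafify J P)) := ⟨_, _, _, IsPullback.of_hasPullback _ _⟩
  refine ⟨_, freeLift b, ((sheafificationAdjunction J AddCommGrpCat.{u}).homEquiv _ E).symm (freeLift a),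
    fun U => flat_free _, epi_map_freeLift J b fun U s => ?_, ?_⟩
  · haveI : Sheaf.IsLocallySurjective e := (Sheaf.isLocallySurjective_iff_epi' AddCommGrpCat.{u} e).2 inferInstance
    refine ⟨_, Presheaf.imageSieve_mem J e.hom ((toSheafify J P).app (op U) s), ?_⟩
    rintro V g ⟨t, ht⟩
    obtain ⟨z, -, hz⟩ := Types.exists_of_isPullback (hc.app (op V)) t (P.map g.op s)
      (ht.trans (NatTrans.naturality_apply (toSheafify J P) g.op s).symm)
    exact ⟨z, hz⟩
  · rw [← Adjunction.homEquiv_naturality_right_symm]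
    apply (((sheafificationAdjunction J AddCommGrpCat.{u}).homEquiv _ ((aJ J).obj P))).injective
    rw [Equiv.apply_symm_apply, Adjunction.homEquiv_unit]
    refine Eq.trans ?_ (toSheafify_naturality J (freeLift b))
    exact (freeLift_comp a e.hom).trans ((congrArg freeLift hc.w).trans (freeLift_comp b _).symm)

theorem subsingleton_ext [HasExt.{u} (Sheaf J AddCommGrpCat.{u})] {H : Sheaf J AddCommGrpCat.{u}}
    (hH : Extends J H) : ∀ (p : ℕ) (P : Cᵒᵖ ⥤ AddCommGrpCat.{u}), IsTF P →
      Subsingleton (Abelian.Ext ((aJ J).obj P) H (p + 1))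
  | p, P, hP => by
    refine ⟨fun a b => ?_⟩
    suffices ∀ x : Abelian.Ext ((aJ J).obj P) H (p + 1), x = 0 from (this a).trans (this b).symm
    intro x
    obtain ⟨E, e, he, hx⟩ := exists_epi_kills p x
    obtain ⟨Q, q, k, hQ, hq, hk⟩ := exists_refine J e
    have hxq : (Abelian.Ext.mk₀ ((aJ J).map q)).comp x (zero_add _) = 0 := by
      rw [← hk, ← Abelian.Ext.mk₀_comp_mk₀_assoc, hx, Abelian.Ext.comp_zero]
    let S := (ShortComplex.mk (kernel.ι q) q (kernel.condition q)).map (aJ J)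
    have hS : S.ShortExact :=
      { exact := (ShortComplex.exact_of_f_is_kernel _ (kernelIsKernel q)).map (aJ J)
        mono_f := inferInstanceAs (Mono ((aJ J).map (kernel.ι q)))
        epi_g := hq }
    obtain ⟨y, rfl⟩ := Abelian.Ext.contravariant_sequence_exact₃ hS H x hxq (add_comm 1 p)
    cases p with
    | zero =>
      obtain ⟨g, rfl⟩ := (Abelian.Ext.mk₀_bijective S.X₁ H).2 y
      let adj := sheafificationAdjunction J AddCommGrpCat.{u}
      obtain ⟨g', hg'⟩ := hH q hP hQ (adj.homEquiv _ _ g)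
      have : S.f ≫ (adj.homEquiv _ _).symm g' = g := by
        change (aJ J).map (kernel.ι q) ≫ _ = _
        rw [← Adjunction.homEquiv_naturality_left_symm, hg', Equiv.symm_apply_apply]
      rw [← this, ← Abelian.Ext.mk₀_comp_mk₀, hS.extClass_comp_assoc]
    | succ r =>
      have := subsingleton_ext hH r (kernel q) (isTF_kernel q hQ)
      rw [@Subsingleton.elim _ this y 0, Abelian.Ext.comp_zero]

end Groth.Agent.TotAc16
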